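import Cfsg.Agent.H319.LB.Base
import Cfsg.Agent.H774.K0.Six
import Cfsg.Agent.S4571
import Cfsg.Agent.SmallSimple.BurnsideNC

/-!
# S4879: `p = 2`, and `p = 3`, `|P| = 9` (helper271)

* `rowAS_two` : the almost simple groups, `p = 2`;
* `nine_le` : `3 ≤ l(B₀)` for `p = 3`, `|P| = 9`, one class of elements of order 3.
-/

set_option autoImplicit false

namespace Cfsg.Agent.H271.LB

open Cfsg Subgroup
open Cfsg.Agent.H741.One (OneC)
open Cfsg.Agent.H319.LB (RowAS lz)

universe u

/-- **The almost simple groups, `p = 2`.** -/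
theorem rowAS_two {M : Ideal AlgInt} (hM : IsPModular 2 M) : RowAS.{u} 2 M := by
  have h2p : Fact (Nat.Prime 2) := ⟨Nat.prime_two⟩
  intro G _ _ hconj h4 T _ _ hTc hTC hTp
  unfold lz
  have hpos : 0 < blockRank 2 (principalBlock M G) := Cfsg.Agent.H634.Cols.blockRank_pos hM
  by_contra hlt
  have h1 : blockRank 2 (principalBlock M G) = 1 := by omega
  have hft : Fintype G := Fintype.ofFinite G
  obtain ⟨P, N, hNn, hNP⟩ := S4646.compl_of_rank_one hM h1
  -- `4 ∣ |T|`
  have hPT : (P : Subgroup G) ≤ T := by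
    intro x hx
    obtain ⟨k, hk⟩ := IsPGroup.iff_orderOf.1 P.isPGroup' ⟨x, hx⟩
    exact hTp x ⟨k, by rw [← hk, ← Subgroup.orderOf_coe]⟩
  have hP4 : 2 ^ 2 ∣ Nat.card (P : Subgroup G) := by
    rw [P.card_eq_multiplicity]
    exact pow_dvd_pow 2 ((Nat.prime_two.pow_dvd_iff_le_factorization Nat.card_pos.ne').1 h4)
  have hT4 : 4 ∣ Nat.card T := by
    have := hP4.trans (Subgroup.card_dvd_of_le hPT)
    simpa using this
  -- `|N|` is odd
  have hNodd : ¬ 2 ∣ Nat.card N := by
    have h2 := hNP.index_eq_card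
    have h3 : ¬ 2 ∣ (P : Subgroup G).index := P.not_dvd_index
    rwa [h2] at h3
  have hidx : N.index = Nat.card (P : Subgroup G) := hNP.symm.index_eq_card
  have hbot : N.subgroupOf T = ⊥ ∨ N.subgroupOf T = ⊤ :=
    IsSimpleGroup.eq_bot_or_eq_top_of_normal _ (Normal.subgroupOf hNn T)
  rcases hbot with hb | hb
  · -- `T` embeds in the 2-group `G ⧸ N`
    have hdvd : Nat.card T ∣ Nat.card (P : Subgroup G) := by
      rw [← hidx]
      have h5 : N.relIndex T = Nat.card T := by
        rw [relIndex, hb, index_bot]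
      rw [← h5]
      exact Subgroup.relIndex_dvd_index_of_normal N T
    have hTp2 : IsPGroup 2 T := by
      obtain ⟨k, hk⟩ := IsPGroup.iff_card.1 P.isPGroup'
      rw [hk] at hdvd
      obtain ⟨j, -, hj⟩ := (Nat.dvd_prime_pow Nat.prime_two).1 hdvd
      exact IsPGroup.of_card hj
    have : Nontrivial T := inferInstance
    have hcen : Nontrivial (center T) := hTp2.center_nontrivial
    have htop : center T = ⊤ := by
      rcases IsSimpleGroup.eq_bot_or_eq_top_of_normal (center T) inferInstance with h5 | h5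
      · exfalso
        rw [h5] at hcen
        exact (not_nontrivial _ hcen)
      · exact h5
    obtain ⟨t, ht⟩ := exists_ne (1 : T)
    apply ht
    apply Subtype.ext
    refine hTc t t.2 fun s hs => ?_
    have h6 : (⟨s, hs⟩ : T) ∈ center T := by rw [htop]; trivial
    exact congrArg Subtype.val (mem_center_iff.1 h6 t)
  · -- `T ≤ N` is of odd order
    have hTN : T ≤ N := by
      rwa [subgroupOf_eq_top] at hb
    exact hNodd (((by norm_num : 2 ∣ 4).trans hT4).trans (Subgroup.card_dvd_of_le hTN))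

section nine

variable {M : Ideal AlgInt}

/-- a central element of order 3, Sylow 3-subgroups of order 9 -/
theorem rank_central_le {C : Type u} [Group C] [Finite C] (hM : IsPModular 3 M) (x : C) (hx : orderOf x = 3)
    (hcen : ∀ g : C, x * g = g * x) (P : Sylow 3 C) (hP : Nat.card (P : Subgroup C) = 9) :
    blockRank 3 (principalBlock M C) ≤ 2 := by
  have h3p : Fact (Nat.Prime 3) := ⟨Nat.prime_three⟩
  have hc : x ∈ center C := mem_center_iff.2 fun g => (hcen g).symm
  have hQc : zpowers x ≤ center C := by rwa [zpowers_le]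
  have hQn : (zpowers x).Normal := ⟨fun n hn g => by
    have := mem_center_iff.1 (hQc hn) g
    rw [this, mul_inv_cancel_right]
    exact hn⟩
  have hQcard : Nat.card (zpowers x) = 3 := by rw [Nat.card_zpowers, hx]
  have hQ : IsPGroup 3 (zpowers x) := IsPGroup.of_card (n := 1) (by rw [hQcard]; norm_num)
  have hsup : zpowers x ⊔ centralizer ((zpowers x : Subgroup C) : Set C) = ⊤ := by
    rw [eq_top_iff]
    intro g _
    refine mem_sup_right ?_
    rw [mem_centralizer_iff]
    intro y hy
    exact ((mem_center_iff.1 (hQc hy)) g).symm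
  rw [S4571.result 3 M hM (zpowers x) hQ hsup]
  obtain ⟨R⟩ : Nonempty (Sylow 3 (C ⧸ zpowers x)) := inferInstance
  have hcardC : Nat.card C = Nat.card (C ⧸ zpowers x) * 3 := by
    rw [← hQcard]
    exact Subgroup.card_eq_card_quotient_mul_card_subgroup (zpowers x)
  have hf : (Nat.card C).factorization 3 = 2 := by
    have h1 : Nat.card (P : Subgroup C) = 3 ^ (Nat.card C).factorization 3 := P.card_eq_multiplicity
    rw [hP, show 9 = 3 ^ 2 by norm_num] at h1
    exact (Nat.pow_right_injective (le_refl 2 |>.trans (by norm_num)) h1).symm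
  have hR : Nat.card (R : Subgroup (C ⧸ zpowers x)) = 3 := by
    have h1 : Nat.card (R : Subgroup (C ⧸ zpowers x)) = 3 ^ (Nat.card (C ⧸ zpowers x)).factorization 3 :=
      R.card_eq_multiplicity
    rw [hcardC, Nat.factorization_mul Nat.card_pos.ne' (by norm_num), Finsupp.add_apply,
      Nat.prime_three.factorization_self] at hf
    rw [h1, show (Nat.card (C ⧸ zpowers x)).factorization 3 = 1 by omega]
    norm_num
  have hdvd : 3 ∣ Nat.card (C ⧸ zpowers x) := by
    rw [← hR]
    exact Subgroup.card_subgroup_dvd_card _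
  rw [Cfsg.Agent.H734.KB.rank_cyclic hM R (isCyclic_of_prime_card hR) hdvd]
  have h1 := Cfsg.Agent.SmallSimple.BurnsideNC.relIndex_dvd_of_card_eq_prime R hR
  exact Nat.le_of_dvd (by norm_num) h1

/-- **`p = 3`, `|P| = 9`, one class of elements of order 3.** -/
theorem nine_le {G : Type u} [Group G] [Finite G] (hM : IsPModular 3 M) (P : Sylow 3 G)
    (hP : Nat.card (P : Subgroup G) = 9) (hconj : OneC 3 G) : 3 ≤ blockRank 3 (principalBlock M G) := by
  classical
  have h3p : Fact (Nat.Prime 3) := ⟨Nat.prime_three⟩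
  have hdiv : 3 ^ 2 ∣ Nat.card G := by
    have := Subgroup.card_subgroup_dvd_card (P : Subgroup G)
    rwa [hP] at this
  -- an element of order 3
  obtain ⟨x, hx⟩ : ∃ x : (P : Subgroup G), orderOf x = 3 :=
    exists_prime_orderOf_dvd_card' 3 (by rw [hP]; norm_num)
  have hx' : orderOf (x : G) = 3 := by rw [Subgroup.orderOf_coe, hx]
  have hx1 : (x : G) ≠ 1 := by
    intro h
    rw [h, orderOf_one] at hx'
    norm_num at hx'
  -- `k = l + l(B₀(C(x)))`
  have hk : Nat.card (principalBlock M G) = ∑ y ∈ ({1, (x : G)} : Finset G),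
      blockRank 3 (principalBlock M ↥(Subgroup.centralizer ({y} : Set G))) := by
    refine Cfsg.Agent.H634.Cols.card_principal_eq hM _ ?_ ?_
    · intro y hy
      rw [Finset.mem_insert, Finset.mem_singleton] at hy
      rcases hy with rfl | rfl
      · exact ⟨0, by simp⟩
      · exact ⟨1, by rw [hx', pow_one]⟩
    · intro g hg
      by_cases hg1 : g = 1
      · refine ⟨1, ⟨by simp, by rw [hg1]⟩, ?_⟩
        rintro y ⟨-, hy⟩
        rw [hg1] at hy
        exact isConj_one_right.1 hy |>.symm ▸ rfl
      · refine ⟨x, ⟨by simp, hconj g x hg1 hx1 hg ⟨1, by rw [hx', pow_one]⟩⟩, ?_⟩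
        rintro y ⟨hy, hy2⟩
        rw [Finset.mem_insert, Finset.mem_singleton] at hy
        rcases hy with rfl | rfl
        · exact absurd (isConj_one_left.1 hy2) hg1
        · rfl
  rw [Finset.sum_pair (Ne.symm hx1), Cfsg.Agent.H734.KB.rank_one hM] at hk
  -- `l(B₀(C(x))) ≤ 2`
  have hPab : ∀ a ∈ (P : Subgroup G), ∀ b ∈ (P : Subgroup G), a * b = b * a := by
    have h1 : IsMulCommutative (P : Subgroup G) := by
      have h2 := IsPGroup.isMulCommutative_of_card_eq_prime_sq (p := 3) (G := (P : Subgroup G)) (by rw [hP]; norm_num)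
      exact h2
    intro a ha b hb
    exact congrArg Subtype.val (h1.is_comm.comm ⟨a, ha⟩ ⟨b, hb⟩)
  set C := Subgroup.centralizer ({(x : G)} : Set G) with hC
  have hPC : (P : Subgroup G) ≤ C := by
    intro a ha
    rw [hC, mem_centralizer_singleton_iff]
    exact hPab a ha x x.2
  have hrank : blockRank 3 (principalBlock M C) ≤ 2 := by
    have hxC : (x : G) ∈ C := hPC x.2
    refine rank_central_le hM (⟨x, hxC⟩ : C) ?_ ?_ (P.subtype hPC) ?_
    · exact (Subgroup.orderOf_mk (x : G) hxC).trans hx'
    · intro g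
      apply Subtype.ext
      exact (mem_centralizer_singleton_iff.1 g.2).symm
    · rw [Sylow.coe_subtype, ← hP]
      exact Nat.card_congr (Subgroup.subgroupOfEquivOfLe hPC).toEquiv
  have h6 := H774.K0.six_le_card (G := G) (p := 3) (by norm_num) hM hdiv
  have h7 : Nat.card {χ : IrrCharacter G // χ ∈ principalBlock M G ∧ ¬ 3 ∣ charDegree (χ : G → ℂ)} ≤
      Nat.card (principalBlock M G) := by
    have := Characters.Core.finite_irr (G := G)
    refine Nat.card_le_card_of_injective (fun χ => (⟨χ.1, χ.2.1⟩ : principalBlock M G)) ?_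
    intro a b hab
    have h8 : a.1 = b.1 := congrArg (fun z : principalBlock M G => z.1) hab
    exact Subtype.ext h8
  omega

end nine

end Cfsg.Agent.H271.LB
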