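import Cfsg.Agent.H271.LB.Small
import Cfsg.Agent.H271.LB3.Main

/-!
# S4879: the almost simple groups, `p = 3` (helper271)

`three_of` : `RowAS 3 M` from S4605, the classification, and the rows `PSL₂(3ⁿ)`, `O'N`, extraspecial Sylow subgroups of
order 27.
-/

set_option autoImplicit false

namespace Cfsg.Agent.H271.LB

open Cfsg Subgroup
open Cfsg.Agent.H741.One (OneC)
open Cfsg.Agent.H319.LB (RowAS lz)

universe u

/-- S4605 for `p = 3`. -/
def SylThree : Prop :=
  ∀ (G : Type u) [Group G] [Finite G], OneC 3 G → ∀ P : Sylow 3 G,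
    IsElementaryAbelian 3 (P : Subgroup G) ∨
      (IsExtraspecial 3 (P : Subgroup G) ∧ Nat.card (P : Subgroup G) = 27)

/-- The row `PSL₂(3ⁿ)`. -/
def RowPslThree (M : Ideal AlgInt) : Prop :=
  ∀ (G : Type u) [Group G] [Finite G], OneC 3 G → ∀ (T : Subgroup G) [T.Normal],
    (∀ g : G, (∀ t ∈ T, Commute g t) → g = 1) → (∀ x : G, (∃ k : ℕ, orderOf x = 3 ^ k) → x ∈ T) →
    ∀ (F : Type) [Field F] [Fintype F] (n : ℕ), Fintype.card F = 3 ^ n → 2 ≤ n →
      Nonempty (↥T ≃* Matrix.ProjectiveSpecialLinearGroup (Fin 2) F) → 3 ≤ blockRank 3 (principalBlock M G)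

/-- The row `O'N`. -/
def RowON (M : Ideal AlgInt) : Prop :=
  ∀ (G : Type u) [Group G] [Finite G] (T : Subgroup G) [T.Normal], Spor.IsoON ↥T →
    3 ≤ blockRank 3 (principalBlock M G)

/-- The groups with extraspecial Sylow 3-subgroups of order 27. -/
def RowExt (M : Ideal AlgInt) : Prop :=
  ∀ (G : Type u) [Group G] [Finite G] (P : Sylow 3 G), IsExtraspecial 3 (P : Subgroup G) →
    Nat.card (P : Subgroup G) = 27 → OneC 3 G → 3 ≤ blockRank 3 (principalBlock M G)

/-- `27` does not divide `|PSL₂(3)|` -/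
theorem two_le_of_dvd {F : Type} [Field F] [Fintype F] {n : ℕ} (hF : Fintype.card F = 3 ^ n)
    (h27 : 27 ∣ Nat.card (Matrix.ProjectiveSpecialLinearGroup (Fin 2) F)) : 2 ≤ n := by
  by_contra hn
  have hq : 1 < Fintype.card F := Fintype.one_lt_card
  have h1 : n = 0 ∨ n = 1 := by omega
  rcases h1 with rfl | rfl
  · rw [hF, pow_zero] at hq
    exact lt_irrefl _ hq
  · have hc := Cfsg.Agent.H356.Num.psl2 hq (Cfsg.Agent.S0243.result (F := F) rfl 2 le_rfl)
    have h2 : 27 ∣ Fintype.card F * (Fintype.card F ^ 2 - 1) := hc ▸ dvd_mul_of_dvd_right h27 _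
    rw [hF] at h2
    norm_num at h2

/-- **The almost simple groups, `p = 3`.** -/
theorem three_of {M : Ideal AlgInt} (hM : IsPModular 3 M) (hS : SylThree.{u})
    (hK : ∀ (S : Type u) [Group S] [Finite S] [IsSimpleGroup S], IsKnownSimple' S)
    (hPsl : RowPslThree.{u} M) (hON : RowON.{u} M) (hExt : RowExt.{u} M) : RowAS.{u} 3 M := by
  have h3p : Fact (Nat.Prime 3) := ⟨Nat.prime_three⟩
  intro G _ _ hconj h9 T _ _ hTc hTC hTp
  unfold lz
  obtain ⟨P⟩ : Nonempty (Sylow 3 G) := inferInstance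
  rcases hS G hconj P with hE | ⟨hE, h27⟩
  swap
  · exact hExt G P hE h27 hconj
  have hPcard : Nat.card (P : Subgroup G) = 3 ^ (Nat.card G).factorization 3 := P.card_eq_multiplicity
  have h2 : 2 ≤ (Nat.card G).factorization 3 :=
    (Nat.prime_three.pow_dvd_iff_le_factorization Nat.card_pos.ne').1 h9
  rcases Nat.lt_or_ge 2 ((Nat.card G).factorization 3) with h3 | h3
  swap
  · refine nine_le hM P ?_ hconj
    rw [hPcard, le_antisymm h3 h2]
    norm_num
  -- the Sylow subgroup lies in `T`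
  have hmem : ∀ Q : Sylow 3 G, (Q : Subgroup G) ≤ T := by
    intro Q x hx
    obtain ⟨k, hk⟩ := IsPGroup.iff_orderOf.1 Q.isPGroup' ⟨x, hx⟩
    exact hTp x ⟨k, by rw [← hk, ← Subgroup.orderOf_coe]⟩
  have hP27 : 27 ∣ Nat.card (P : Subgroup G) := by
    rw [hPcard, show 27 = 3 ^ 3 by norm_num]
    exact pow_dvd_pow 3 h3
  have hT27 : 27 ∣ Nat.card T := hP27.trans (Subgroup.card_dvd_of_le (hmem P))
  have hEA : ∀ Q : Sylow 3 G, IsElementaryAbelian 3 (Q : Subgroup G) := by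
    intro Q
    rcases hS G hconj Q with h | ⟨h, h27⟩
    · exact h
    · exfalso
      have e : (Q : Subgroup G) ≃* (P : Subgroup G) := Q.equiv P
      have hcen : center (Q : Subgroup G) = ⊤ := by
        rw [eq_top_iff]
        intro x _
        rw [mem_center_iff]
        intro y
        apply e.injective
        rw [map_mul, map_mul]
        exact hE.1.is_comm.comm _ _
      have h4 := h.2
      rw [hcen, Nat.card_congr (Subgroup.topEquiv (G := (Q : Subgroup G))).toEquiv, h27] at h4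
      norm_num at h4
  have hcomm : ∀ Q : Subgroup ↥T, IsPGroup 3 ↥Q → ∀ a ∈ Q, ∀ b ∈ Q, a * b = b * a := by
    intro Q hQ a ha b hb
    obtain ⟨R, hR⟩ := (hQ.map T.subtype).exists_le_sylow
    have h4 := (hEA R).1.is_comm.comm ⟨(a : G), hR ⟨a, ha, rfl⟩⟩ ⟨(b : G), hR ⟨b, hb, rfl⟩⟩
    have h5 : (a : G) * (b : G) = (b : G) * (a : G) := congrArg Subtype.val h4
    exact Subtype.ext h5
  have hexp : ∀ (x : ↥T) (k : ℕ), x ^ 3 ^ k = 1 → x ^ 3 = 1 := by
    intro x k hx
    have h4 : (x : G) ^ 3 ^ k = 1 := congrArg Subtype.val hx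
    have h5 : IsPGroup 3 ↥(zpowers (x : G)) := by
      obtain ⟨m, -, hm⟩ := (Nat.dvd_prime_pow Nat.prime_three).1 (orderOf_dvd_of_pow_eq_one h4)
      exact IsPGroup.of_card (n := m) (by rw [Nat.card_zpowers, hm])
    obtain ⟨R, hR⟩ := h5.exists_le_sylow
    exact Subtype.ext ((hEA R).2 x (hR (mem_zpowers _)))
  have hcard : ∀ Q : Sylow 3 ↥T, 27 ≤ Nat.card Q := by
    intro Q
    have h4 : Nat.card ↥(Q : Subgroup ↥T) = 3 ^ (Nat.card ↥T).factorization 3 := Q.card_eq_multiplicity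
    have h5 : 3 ≤ (Nat.card ↥T).factorization 3 :=
      (Nat.prime_three.pow_dvd_iff_le_factorization Nat.card_pos.ne').1 (by simpa using hT27)
    calc 27 = 3 ^ 3 := by norm_num
      _ ≤ 3 ^ (Nat.card ↥T).factorization 3 := Nat.pow_le_pow_right (by norm_num) h5
      _ = Nat.card ↥(Q : Subgroup ↥T) := h4.symm
  rcases Cfsg.Agent.H271.LB3.three_names (hK ↥T) hcard hcomm hexp with ⟨F, i1, i2, n, hF, ⟨e⟩⟩ | h
  · refine hPsl G hconj T hTC hTp F n hF (two_le_of_dvd hF ?_) ⟨e⟩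
    rwa [← Nat.card_congr e.toEquiv]
  · exact hON G T h

end Cfsg.Agent.H271.LB
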